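import Groth.Agent.RG.Pure.GeomInt
import Groth.Agent.RigPts.ComplEquiv
import Mathlib
/-!
A smooth algebra with geometrically integral fibres maps universally injectively to its completion
along a section.
-/
set_option autoImplicit false
set_option linter.style.haveILetI false
set_option maxHeartbeats 1000000
set_option backward.isDefEq.respectTransparency false
universe u
open TensorProduct

namespace Groth.Agent.UIComplete

variable {A B : Type u} [CommRing A] [IsNoetherianRing A] [CommRing B] [Algebra A B]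
  [Algebra.FiniteType A B] [Module.Flat A B]
  {Bh : Type u} [CommRing Bh] [Algebra B Bh] [Algebra A Bh] [IsScalarTower A B Bh]
  (u : B →ₐ[A] A) [IsAdicComplete ((RingHom.ker u).map (algebraMap B Bh)) Bh]
  (hq : ∀ n : ℕ, Function.Bijective (Ideal.quotientMap ((RingHom.ker u ^ n).map (algebraMap B Bh))
      (algebraMap B Bh) Ideal.le_comap_map))

include hq in
theorem flat_completion : Module.Flat A Bh := by
  haveI : IsNoetherianRing B := Algebra.FiniteType.isNoetherianRing A B
  let I := RingHom.ker u
  let K := I.map (algebraMap B Bh)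
  have hpow : ∀ n, K ^ n = (I ^ n).map (algebraMap B Bh) := fun n => (Ideal.map_pow _ _ _).symm
  obtain ⟨e⟩ := RigPts.adicCompletion_algEquiv (IsScalarTower.toAlgHom A B Bh) I K
    (fun n => by rw [hpow]; exact Ideal.le_comap_map)
    (fun n b hb => by
      rw [hpow] at hb
      have h := (hq n).1 (a₁ := Ideal.Quotient.mk _ b) (a₂ := 0) (by
        rw [map_zero]
        exact Ideal.Quotient.eq_zero_iff_mem.2 hb)
      exact Ideal.Quotient.eq_zero_iff_mem.1 h)
    (fun n d => by
      obtain ⟨y, hy⟩ := (hq n).2 (Ideal.Quotient.mk _ d)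
      obtain ⟨b, rfl⟩ := Ideal.Quotient.mk_surjective y
      refine ⟨b, ?_⟩
      rw [hpow]
      exact Ideal.Quotient.eq.1 hy)
  haveI : Module.Flat B (AdicCompletion I B) := AdicCompletion.flat_of_isNoetherian _
  haveI : Module.Flat A (AdicCompletion I B) := Module.Flat.trans A B _
  exact Module.Flat.of_linearEquiv
    (((AdicCompletion.ofAlgEquiv K).restrictScalars A).toLinearEquiv.trans e.symm.toLinearEquiv)

attribute [local instance] Algebra.TensorProduct.rightAlgebra in
theorem isDomain_quotient_tensor (hfib : FlatCA.GeomIntegralFibres A B) (p : Ideal A) [p.IsPrime] :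
    IsDomain ((A ⧸ p) ⊗[A] B) := by
  haveI : IsDomain (B ⊗[A] p.ResidueField) := RG.Pure.isDomain_baseChange_field hfib _
  let g : A ⧸ p →ₐ[A] p.ResidueField := IsScalarTower.toAlgHom A (A ⧸ p) p.ResidueField
  let m : (A ⧸ p) ⊗[A] B →ₐ[A] B ⊗[A] p.ResidueField :=
    (Algebra.TensorProduct.comm A p.ResidueField B).toAlgHom.comp
      (Algebra.TensorProduct.map g (AlgHom.id A B))
  exact Function.Injective.isDomain (f := m)
    ((Algebra.TensorProduct.comm A p.ResidueField B).injective.comp
      (Module.Flat.rTensor_preserves_injective_linearMap g.toLinearMap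
        (IsFractionRing.injective (A ⧸ p) p.ResidueField)))

include hq in
theorem injective_prime (hfib : FlatCA.GeomIntegralFibres A B) (p : Ideal A) [p.IsPrime] :
    Function.Injective ((IsScalarTower.toAlgHom A B Bh).toLinearMap.lTensor (A ⧸ p)) := by
  haveI := isDomain_quotient_tensor hfib p
  let C := (A ⧸ p) ⊗[A] B
  haveI : IsNoetherianRing B := Algebra.FiniteType.isNoetherianRing A B
  haveI : IsNoetherianRing C := Algebra.FiniteType.isNoetherianRing (A ⧸ p) C
  let inc : B →ₐ[A] C := Algebra.TensorProduct.includeRight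
  let I := RingHom.ker u
  have hI : I.map inc ≠ ⊤ := by
    let χ : C →ₐ[A] A ⧸ p := Algebra.TensorProduct.lift (AlgHom.id A _) ((Algebra.ofId A (A ⧸ p)).comp u)
      (fun _ _ => Commute.all _ _)
    have hle : I.map inc ≤ RingHom.ker χ := by
      rw [Ideal.map_le_iff_le_comap]
      intro b hb
      show χ ((1 : A ⧸ p) ⊗ₜ b) = 0
      rw [Algebra.TensorProduct.lift_tmul, AlgHom.id_apply, one_mul, AlgHom.comp_apply,
        show u b = 0 from hb, map_zero]
    intro h
    rw [h, top_le_iff] at hle
    exact one_ne_zero (α := A ⧸ p) ((map_one χ).symm.trans (RingHom.mem_ker.1 (hle ▸ Submodule.mem_top)))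
  rw [injective_iff_map_eq_zero]
  intro z hz
  suffices hn : ∀ n, z ∈ I.map inc ^ n by
    have h2 : z ∈ ⨅ i : ℕ, I.map inc ^ i := (Submodule.mem_iInf _).2 hn
    rwa [Ideal.iInf_pow_eq_bot_of_isDomain _ hI, Ideal.mem_bot] at h2
  intro n
  let J := (I ^ n).map (algebraMap B Bh)
  let ψ : B ⧸ I ^ n →ₐ[A] Bh ⧸ J :=
    Ideal.quotientMapₐ J (IsScalarTower.toAlgHom A B Bh) Ideal.le_comap_map
  let ψe : (B ⧸ I ^ n) ≃ₗ[A] Bh ⧸ J := LinearEquiv.ofBijective ψ.toLinearMap (hq n)
  have h0 : (Ideal.Quotient.mkₐ A (I ^ n)).toLinearMap.lTensor (A ⧸ p) z = 0 := by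
    apply (ψe.lTensor (A ⧸ p)).injective
    rw [map_zero]
    show ψ.toLinearMap.lTensor (A ⧸ p) _ = 0
    rw [← LinearMap.comp_apply, ← LinearMap.lTensor_comp,
      show ψ.toLinearMap ∘ₗ (Ideal.Quotient.mkₐ A (I ^ n)).toLinearMap =
        (Ideal.Quotient.mkₐ A J).toLinearMap ∘ₗ (IsScalarTower.toAlgHom A B Bh).toLinearMap from
        LinearMap.ext fun _ => rfl,
      LinearMap.lTensor_comp, LinearMap.comp_apply, hz, map_zero]
  have hex : Function.Exact ((I ^ n).restrictScalars A).subtype (Ideal.Quotient.mkₐ A (I ^ n)).toLinearMap := by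
    intro b
    show Ideal.Quotient.mk (I ^ n) b = 0 ↔ b ∈ Set.range Subtype.val
    rw [Ideal.Quotient.eq_zero_iff_mem, Subtype.range_coe]
    rfl
  obtain ⟨w, rfl⟩ := (lTensor_exact (A ⧸ p) hex Ideal.Quotient.mk_surjective z).1 h0
  clear hz h0
  induction w with
  | zero => simp
  | tmul a i =>
    rw [LinearMap.lTensor_tmul, ← Ideal.map_pow]
    have : a ⊗ₜ[A] (((I ^ n).restrictScalars A).subtype i) = (a ⊗ₜ 1) * inc (i : B) := by
      show a ⊗ₜ[A] (i : B) = (a ⊗ₜ[A] (1 : B)) * ((1 : A ⧸ p) ⊗ₜ[A] (i : B))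
      rw [Algebra.TensorProduct.tmul_mul_tmul, mul_one, one_mul]
    rw [this]
    exact Ideal.mul_mem_left _ _ (Ideal.mem_map_of_mem _ i.2)
  | add a b ha hb => rw [map_add]; exact add_mem ha hb

include hq in
theorem injective_finite (hfib : FlatCA.GeomIntegralFibres A B) (Q : Type u) [AddCommGroup Q] [Module A Q]
    [Module.Finite A Q] : Function.Injective ((IsScalarTower.toAlgHom A B Bh).toLinearMap.lTensor Q) := by
  haveI := flat_completion (Bh := Bh) u hq
  induction ‹Module.Finite A Q› using IsNoetherianRing.induction_on_isQuotientEquivQuotientPrime with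
  | subsingleton M => exact Function.injective_of_subsingleton _
  | quotient M q e =>
    intro x y hxy
    apply (LinearEquiv.rTensor B e).injective
    apply injective_prime u hq hfib q.1
    show (IsScalarTower.toAlgHom A B Bh).toLinearMap.lTensor _ (e.toLinearMap.rTensor B x) =
      (IsScalarTower.toAlgHom A B Bh).toLinearMap.lTensor _ (e.toLinearMap.rTensor B y)
    rw [← LinearMap.comp_apply, LinearMap.lTensor_comp_rTensor, ← LinearMap.rTensor_comp_lTensor,
      LinearMap.comp_apply, hxy, ← LinearMap.comp_apply, LinearMap.rTensor_comp_lTensor,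
      ← LinearMap.lTensor_comp_rTensor, LinearMap.comp_apply]
  | exact N₁ N₂ N₃ g h hg hh hgh h1 h3 =>
    rw [injective_iff_map_eq_zero]
    intro x hx
    have h0 : h.rTensor B x = 0 := by
      apply h3
      rw [map_zero, ← LinearMap.comp_apply, LinearMap.lTensor_comp_rTensor,
        ← LinearMap.rTensor_comp_lTensor, LinearMap.comp_apply, hx, map_zero]
    obtain ⟨y, rfl⟩ := (rTensor_exact B hgh hh x).1 h0
    have h4 : (IsScalarTower.toAlgHom A B Bh).toLinearMap.lTensor N₁ y = 0 := by
      apply Module.Flat.rTensor_preserves_injective_linearMap (M := Bh) g hg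
      rw [map_zero, ← LinearMap.comp_apply, LinearMap.rTensor_comp_lTensor,
        ← LinearMap.lTensor_comp_rTensor, LinearMap.comp_apply, hx]
    rw [h1 (h4.trans (map_zero _).symm), map_zero]

include hq in
theorem univInj (hfib : FlatCA.GeomIntegralFibres A B) :
    FlatCA.UnivInj A (IsScalarTower.toAlgHom A B Bh).toLinearMap := by
  intro Q _ _
  haveI := flat_completion (Bh := Bh) u hq
  rw [injective_iff_map_eq_zero]
  intro x hx
  obtain ⟨N', hN', hs⟩ := TensorProduct.exists_finite_submodule_left_of_setFinite {x} (Set.finite_singleton x)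
  obtain ⟨y, rfl⟩ := hs rfl
  have h4 : (IsScalarTower.toAlgHom A B Bh).toLinearMap.lTensor N' y = 0 := by
    apply Module.Flat.rTensor_preserves_injective_linearMap (M := Bh) N'.subtype N'.injective_subtype
    rw [map_zero, ← LinearMap.comp_apply, LinearMap.rTensor_comp_lTensor,
      ← LinearMap.lTensor_comp_rTensor, LinearMap.comp_apply, hx]
  rw [injective_finite u hq hfib N' (h4.trans (map_zero _).symm), map_zero]

end Groth.Agent.UIComplete
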